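import Groth.Prelude.Def_Tame
import Mathlib.RingTheory.OrderOfVanishing.Noetherian
import Mathlib.RingTheory.Valuation.Basic

/-!
`CycAlg.ordFrac` of a discrete valuation ring is its normalised additive valuation on the fraction
field; approximation for finitely many pairwise incomparable additive valuations.
-/

set_option autoImplicit false

universe u v

namespace Groth.Agent.Lib.SmoothCurve.Ord

section DVR

variable (R : Type u) [CommRing R] [IsDomain R] [IsDiscreteValuationRing R]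
  {K : Type v} [Field K] [Algebra R K] [IsFractionRing R K]

theorem algebraMap_ne_zero {a : R} (ha : a ≠ 0) : algebraMap R K a ≠ 0 :=
  IsFractionRing.to_map_ne_zero_of_mem_nonZeroDivisors (mem_nonZeroDivisors_of_ne_zero ha)

theorem ordFrac_eq_log {f : K} (hf : f ≠ 0) :
    CycAlg.ordFrac R K f = WithZero.log (Ring.ordFrac R f) := by
  rw [CycAlg.ordFrac, dif_pos ⟨inferInstance, inferInstance, inferInstance, ‹_›⟩]
  obtain ⟨z, hz⟩ := WithZero.ne_zero_iff_exists.mp ((map_ne_zero (Ring.ordFrac R (K := K))).mpr hf)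
  rw [← hz]
  rfl

theorem ordFrac_zero : CycAlg.ordFrac R K (0 : K) = 0 := by
  rw [CycAlg.ordFrac, dif_pos ⟨inferInstance, inferInstance, inferInstance, ‹_›⟩, map_zero]
  rfl

theorem ordFrac_mul {f g : K} (hf : f ≠ 0) (hg : g ≠ 0) :
    CycAlg.ordFrac R K (f * g) = CycAlg.ordFrac R K f + CycAlg.ordFrac R K g := by
  rw [ordFrac_eq_log R hf, ordFrac_eq_log R hg, ordFrac_eq_log R (mul_ne_zero hf hg), map_mul,
    WithZero.log_mul ((map_ne_zero _).mpr hf) ((map_ne_zero _).mpr hg)]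

theorem ordFrac_one : CycAlg.ordFrac R K (1 : K) = 0 := by
  rw [ordFrac_eq_log R one_ne_zero, map_one, WithZero.log_one]

theorem ordFrac_algebraMap {a : R} (ha : a ≠ 0) :
    CycAlg.ordFrac R K (algebraMap R K a) =
      ((IsDiscreteValuationRing.addVal R a).toNat : ℤ) := by
  rw [ordFrac_eq_log R (algebraMap_ne_zero R ha), Ring.ordFrac_eq_ord R ha]
  have hne : Ring.ord R a ≠ ⊤ := Ring.ord_ne_top (mem_nonZeroDivisors_of_ne_zero ha)
  obtain ⟨n, hn⟩ := ENat.ne_top_iff_exists.mp hne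
  rw [Ring.ordMonoidWithZeroHom_eq_coe R (mem_nonZeroDivisors_of_ne_zero ha) hn.symm,
    ← Ring.ord_eq_addVal, ← hn]
  rfl

theorem ordFrac_algebraMap_eq_zero_iff {a : R} (ha : a ≠ 0) :
    CycAlg.ordFrac R K (algebraMap R K a) = 0 ↔ IsUnit a := by
  rw [ordFrac_algebraMap R ha, Int.natCast_eq_zero, ENat.toNat_eq_zero]
  refine ⟨fun h => ?_, fun h => Or.inl (IsDiscreteValuationRing.addVal_eq_zero_iff.mpr h)⟩
  rcases h with h | h
  · exact IsDiscreteValuationRing.addVal_eq_zero_iff.mp h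
  · exact absurd (IsDiscreteValuationRing.addVal_eq_top_iff.mp h) ha

theorem ordFrac_algebraMap_irreducible {ϖ : R} (hϖ : Irreducible ϖ) :
    CycAlg.ordFrac R K (algebraMap R K ϖ) = 1 := by
  rw [ordFrac_algebraMap R hϖ.ne_zero, IsDiscreteValuationRing.addVal_uniformizer hϖ]
  rfl

theorem ordFrac_nonneg_iff {f : K} (hf : f ≠ 0) :
    0 ≤ CycAlg.ordFrac R K f ↔ ∃ a : R, algebraMap R K a = f := by
  constructor
  · intro h
    obtain ⟨a, b, hb, rfl⟩ := IsFractionRing.div_surjective (A := R) f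
    have hb0 : b ≠ 0 := nonZeroDivisors.ne_zero hb
    have ha0 : a ≠ 0 := by rintro rfl; simp at hf
    have hbK := algebraMap_ne_zero R (K := K) hb0
    have hsum := ordFrac_mul R hf hbK
    rw [div_mul_cancel₀ _ hbK, ordFrac_algebraMap R ha0, ordFrac_algebraMap R hb0] at hsum
    have hdvd : b ∣ a := by
      rw [← IsDiscreteValuationRing.addVal_le_iff_dvd]
      have h1 : IsDiscreteValuationRing.addVal R a ≠ ⊤ :=
        fun h' => ha0 (IsDiscreteValuationRing.addVal_eq_top_iff.mp h')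
      have h2 : IsDiscreteValuationRing.addVal R b ≠ ⊤ :=
        fun h' => hb0 (IsDiscreteValuationRing.addVal_eq_top_iff.mp h')
      rw [← ENat.natCast_toNat h1, ← ENat.natCast_toNat h2, Nat.cast_le]
      omega
    obtain ⟨c, rfl⟩ := hdvd
    exact ⟨c, by rw [map_mul, mul_comm, mul_div_assoc, div_self hbK, mul_one]⟩
  · rintro ⟨a, rfl⟩
    rw [ordFrac_algebraMap R (fun h => hf (by rw [h, map_zero]))]
    exact Int.natCast_nonneg _

theorem ordFrac_add {f g : K} (hf : f ≠ 0) (hg : g ≠ 0) (hfg : f + g ≠ 0) :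
    min (CycAlg.ordFrac R K f) (CycAlg.ordFrac R K g) ≤ CycAlg.ordFrac R K (f + g) := by
  wlog h : CycAlg.ordFrac R K f ≤ CycAlg.ordFrac R K g generalizing f g
  · rw [min_comm, add_comm f g]
    exact this hg hf (by rwa [add_comm]) (le_of_not_ge h)
  rw [min_eq_left h]
  have hq : g / f ≠ 0 := div_ne_zero hg hf
  have h1 := ordFrac_mul R hq hf
  rw [div_mul_cancel₀ _ hf] at h1
  obtain ⟨a, ha⟩ := (ordFrac_nonneg_iff R hq).mp (by omega)
  have h2 : f + g = algebraMap R K (1 + a) * f := by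
    rw [map_add, map_one, ha, add_mul, one_mul, div_mul_cancel₀ _ hf]
  have h3 : algebraMap R K (1 + a) ≠ 0 := fun h0 => hfg (by rw [h2, h0, zero_mul])
  rw [h2, ordFrac_mul R h3 hf]
  have := (ordFrac_nonneg_iff R h3).mpr ⟨_, rfl⟩
  omega

open Classical in
/-- The additive valuation of a discrete valuation ring on its fraction field. -/
noncomputable def val : AddValuation K (WithTop ℤ) :=
  AddValuation.of (fun f => if f = 0 then ⊤ else ((CycAlg.ordFrac R K f : ℤ) : WithTop ℤ))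
    (if_pos rfl)
    (by simp [ordFrac_one])
    (fun f g => by
      by_cases hf : f = 0
      · simp [hf]
      by_cases hg : g = 0
      · simp [hg]
      by_cases hfg : f + g = 0
      · simp [hfg]
      simp only [hf, hg, hfg, if_false]
      rw [← WithTop.coe_min, WithTop.coe_le_coe]
      exact ordFrac_add R hf hg hfg)
    (fun f g => by
      by_cases hf : f = 0
      · simp [hf]
      by_cases hg : g = 0
      · simp [hg]
      simp only [hf, hg, mul_eq_zero, or_self, if_false]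
      rw [ordFrac_mul R hf hg, WithTop.coe_add])

theorem val_apply {f : K} (hf : f ≠ 0) :
    val R f = ((CycAlg.ordFrac R K f : ℤ) : WithTop ℤ) := by
  classical
  exact (AddValuation.of_apply _).trans (if_neg hf)

theorem coe_le_val_iff {f : K} (n : ℤ) :
    (n : WithTop ℤ) ≤ val R f ↔ f = 0 ∨ n ≤ CycAlg.ordFrac R K f := by
  by_cases hf : f = 0
  · simp [hf]
  · simp [val_apply R hf, hf]

theorem zero_le_val_iff {f : K} : 0 ≤ val R f ↔ ∃ a : R, algebraMap R K a = f := by
  by_cases hf : f = 0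
  · simp only [hf, AddValuation.map_zero, le_top, true_iff]
    exact ⟨0, map_zero _⟩
  · rw [val_apply R hf, ← WithTop.coe_zero, WithTop.coe_le_coe]
    exact ordFrac_nonneg_iff R hf

theorem zero_lt_val_algebraMap_iff {a : R} :
    0 < val R (algebraMap R K a) ↔ a ∈ IsLocalRing.maximalIdeal R := by
  by_cases ha : a = 0
  · simp [ha]
  · rw [val_apply R (algebraMap_ne_zero R ha), ← WithTop.coe_zero, WithTop.coe_lt_coe,
      IsLocalRing.mem_maximalIdeal, mem_nonunits_iff, ← ordFrac_algebraMap_eq_zero_iff R (K := K) ha]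
    have : 0 ≤ CycAlg.ordFrac R K (algebraMap R K a) :=
      (ordFrac_nonneg_iff R (algebraMap_ne_zero R ha)).mpr ⟨a, rfl⟩
    omega

end DVR

section Approximation

variable {K : Type v} [Field K] {ι : Type*} (v : ι → AddValuation K (WithTop ℤ))

theorem exists_pos_forall_neg (hnt : ∀ y, ∃ a : K, v y a < 0)
    (hinc : ∀ x y, x ≠ y → ∃ a : K, 0 ≤ v x a ∧ v y a < 0) (x : ι) (T : Finset ι) (hx : x ∉ T) :
    ∃ f : K, f ≠ 0 ∧ 0 < v x f ∧ ∀ y ∈ T, v y f < 0 := by
  classical
  induction T using Finset.induction with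
  | empty =>
    obtain ⟨a, ha⟩ := hnt x
    have ha0 : a ≠ 0 := by rintro rfl; simp at ha
    refine ⟨a⁻¹, inv_ne_zero ha0, ?_, by simp⟩
    rw [AddValuation.map_inv]
    obtain ⟨n, hn⟩ := WithTop.ne_top_iff_exists.mp ha.ne_top
    rw [← hn] at ha ⊢
    rw [← WithTop.coe_zero, WithTop.coe_lt_coe] at ha
    rw [← WithTop.LinearOrderedAddCommGroup.coe_neg, ← WithTop.coe_zero, WithTop.coe_lt_coe]
    omega
  | insert y T hy ih =>
    rw [Finset.mem_insert, not_or] at hx
    obtain ⟨f, hf0, hfx, hfT⟩ := ih hx.2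
    by_cases hfy : v y f < 0
    · exact ⟨f, hf0, hfx, fun z hz => by
        rcases Finset.mem_insert.mp hz with rfl | hz
        · exact hfy
        · exact hfT z hz⟩
    obtain ⟨a, hax, hay⟩ := hinc x y hx.1
    obtain ⟨b, hby, hbx⟩ := hinc y x (Ne.symm hx.1)
    have hb0 : b ≠ 0 := by rintro rfl; simp at hbx
    have ha0 : a ≠ 0 := by rintro rfl; simp at hay
    set g := a / b with hg
    have hg0 : g ≠ 0 := div_ne_zero ha0 hb0
    have hga : ∀ z, v z g + v z b = v z a := fun z => by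
      rw [← AddValuation.map_mul, hg, div_mul_cancel₀ _ hb0]
    have hne : ∀ z (c : K), c ≠ 0 → ∃ n : ℤ, v z c = (n : WithTop ℤ) := fun z c hc =>
      ⟨_, (WithTop.coe_untop _ ((AddValuation.ne_top_iff _).mpr hc)).symm⟩
    choose w hw using hne
    have hgx : (0 : ℤ) < w x g hg0 := by
      have h1 := hga x
      rw [hw x g hg0, hw x b hb0, hw x a ha0, ← WithTop.coe_add, WithTop.coe_inj] at h1
      rw [hw x a ha0, ← WithTop.coe_zero, WithTop.coe_le_coe] at hax
      rw [hw x b hb0, ← WithTop.coe_zero, WithTop.coe_lt_coe] at hbx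
      omega
    have hgy : w y g hg0 < 0 := by
      have h1 := hga y
      rw [hw y g hg0, hw y b hb0, hw y a ha0, ← WithTop.coe_add, WithTop.coe_inj] at h1
      rw [hw y a ha0, ← WithTop.coe_zero, WithTop.coe_lt_coe] at hay
      rw [hw y b hb0, ← WithTop.coe_zero, WithTop.coe_le_coe] at hby
      omega
    set M : ℕ := (T.sup fun z => (w z f hf0).natAbs) + 1
    have hpow : ∀ z, v z (g ^ M) = ((M * w z g hg0 : ℤ) : WithTop ℤ) := fun z => by
      rw [AddValuation.map_pow, hw z g hg0, ← WithTop.coe_nsmul, nsmul_eq_mul]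
    have hfy' : 0 ≤ v y f := not_lt.mp hfy
    have hlt : v y (g ^ M) < v y f := by
      refine lt_of_lt_of_le ?_ hfy'
      rw [hpow, ← WithTop.coe_zero, WithTop.coe_lt_coe]
      exact Int.mul_neg_of_pos_of_neg (by omega) hgy
    have hxsum : 0 < v x (f + g ^ M) := by
      refine lt_of_lt_of_le (lt_min hfx ?_) (AddValuation.map_add _ _ _)
      rw [hpow, ← WithTop.coe_zero, WithTop.coe_lt_coe]
      exact Int.mul_pos (by omega) hgx
    have hysum : v y (f + g ^ M) < 0 := by
      rw [AddValuation.map_add_eq_of_lt_right _ hlt, hpow, ← WithTop.coe_zero, WithTop.coe_lt_coe]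
      exact Int.mul_neg_of_pos_of_neg (by omega) hgy
    refine ⟨f + g ^ M, fun h0 => by simp [h0] at hysum, hxsum, fun z hz => ?_⟩
    rcases Finset.mem_insert.mp hz with rfl | hz
    · exact hysum
    have hfz := hfT z hz
    rw [hw z f hf0, ← WithTop.coe_zero, WithTop.coe_lt_coe] at hfz
    have hMz : (w z f hf0).natAbs < M :=
      Nat.lt_succ_of_le (Finset.le_sup (f := fun z => (w z f hf0).natAbs) hz)
    rcases lt_trichotomy (v z (g ^ M)) (v z f) with h | h | h
    · rw [AddValuation.map_add_eq_of_lt_right _ h]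
      exact h.trans (by rw [hw z f hf0, ← WithTop.coe_zero, WithTop.coe_lt_coe]; exact hfz)
    · rw [hpow, hw z f hf0, WithTop.coe_inj] at h
      exfalso
      have h2 : ((M : ℤ) * w z g hg0).natAbs = (w z f hf0).natAbs := by rw [h]
      rw [Int.natAbs_mul, Int.natAbs_natCast] at h2
      rcases Nat.eq_zero_or_pos (w z g hg0).natAbs with h0 | h0
      · rw [h0, mul_zero] at h2; omega
      · have := Nat.le_mul_of_pos_right M h0; omega
    · rw [AddValuation.map_add_eq_of_lt_left _ h, hw z f hf0, ← WithTop.coe_zero,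
        WithTop.coe_lt_coe]
      exact hfz

theorem exists_near_one (hnt : ∀ y, ∃ a : K, v y a < 0)
    (hinc : ∀ x y, x ≠ y → ∃ a : K, 0 ≤ v x a ∧ v y a < 0) (x : ι) (T : Finset ι) (hx : x ∉ T)
    (N : ℕ) : ∃ e : K, ((N : ℤ) : WithTop ℤ) ≤ v x (e - 1) ∧
      ∀ y ∈ T, ((N : ℤ) : WithTop ℤ) ≤ v y e := by
  obtain ⟨f, hf0, hfx, hfT⟩ := exists_pos_forall_neg v hnt hinc x T hx
  have key : ∀ z, v z f < 0 → ((N + 1 : ℕ) : ℤ) ≤ (-(v z (f ^ (N + 1))).untopD 0) ∧
      v z (1 + f ^ (N + 1)) = v z (f ^ (N + 1)) := by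
    intro z hz
    obtain ⟨n, hn⟩ := WithTop.ne_top_iff_exists.mp hz.ne_top
    rw [← hn, ← WithTop.coe_zero, WithTop.coe_lt_coe] at hz
    have hp : v z (f ^ (N + 1)) = (((N + 1 : ℕ) * n : ℤ) : WithTop ℤ) := by
      rw [AddValuation.map_pow, ← hn, ← WithTop.coe_nsmul, nsmul_eq_mul]
    have hm : ((N + 1 : ℕ) : ℤ) * n ≤ ((N + 1 : ℕ) : ℤ) * (-1) :=
      Int.mul_le_mul_of_nonneg_left (by omega) (by omega)
    refine ⟨?_, AddValuation.map_add_eq_of_lt_right _ ?_⟩
    · rw [hp, WithTop.untopD_coe]; omega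
    · rw [AddValuation.map_one, hp, ← WithTop.coe_zero, WithTop.coe_lt_coe]; omega
  obtain ⟨hxpow, hx1⟩ : ((N : ℤ) : WithTop ℤ) ≤ v x (f ^ (N + 1)) ∧ v x (1 + f ^ (N + 1)) = 0 := by
    obtain ⟨n, hn⟩ := WithTop.ne_top_iff_exists.mp ((AddValuation.ne_top_iff (v x)).mpr hf0)
    rw [← hn, ← WithTop.coe_zero, WithTop.coe_lt_coe] at hfx
    have hm : ((N + 1 : ℕ) : ℤ) * 1 ≤ ((N + 1 : ℕ) : ℤ) * n :=
      Int.mul_le_mul_of_nonneg_left (by omega) (by omega)
    have hp : v x (f ^ (N + 1)) = (((N + 1 : ℕ) * n : ℤ) : WithTop ℤ) := by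
      rw [AddValuation.map_pow, ← hn, ← WithTop.coe_nsmul, nsmul_eq_mul]
    refine ⟨?_, ?_⟩
    · rw [hp, WithTop.coe_le_coe]; omega
    · rw [AddValuation.map_add_eq_of_lt_left, AddValuation.map_one]
      rw [AddValuation.map_one, hp, ← WithTop.coe_zero, WithTop.coe_lt_coe]; omega
  have h10 : (1 : K) + f ^ (N + 1) ≠ 0 := fun h => by simp [h] at hx1
  refine ⟨(1 + f ^ (N + 1))⁻¹, ?_, fun y hy => ?_⟩
  · have he : (1 + f ^ (N + 1))⁻¹ - 1 = -(f ^ (N + 1) * (1 + f ^ (N + 1))⁻¹) := by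
      field_simp; ring
    rw [he, AddValuation.map_neg, AddValuation.map_mul, AddValuation.map_inv, hx1]
    simpa using hxpow
  · obtain ⟨h1, h2⟩ := key y (hfT y hy)
    rw [AddValuation.map_inv, h2]
    obtain ⟨n, hn⟩ := WithTop.ne_top_iff_exists.mp
      ((AddValuation.ne_top_iff (v y)).mpr (pow_ne_zero (N + 1) hf0))
    rw [← hn] at h1 ⊢
    rw [WithTop.untopD_coe] at h1
    rw [← WithTop.LinearOrderedAddCommGroup.coe_neg, WithTop.coe_le_coe]
    omega

/-- Weak approximation. -/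
theorem exists_forall_le_val_sub (hnt : ∀ y, ∃ a : K, v y a < 0)
    (hinc : ∀ x y, x ≠ y → ∃ a : K, 0 ≤ v x a ∧ v y a < 0) (S : Finset ι) (t : ι → K)
    (n : ι → ℤ) : ∃ g : K, ∀ x ∈ S, (n x : WithTop ℤ) ≤ v x (g - t x) := by
  classical
  let b : ι → ι → ℤ := fun x y => (v x (t y)).untopD 0
  let N : ℕ := S.sup fun x => S.sup fun y => (n x - b x y).toNat
  choose e he1 he2 using fun x : S => exists_near_one v hnt hinc x.1 (S.erase x.1)
    (Finset.notMem_erase _ _) N
  refine ⟨∑ y : S, t y * e y, fun x hx => ?_⟩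
  have hsplit : (∑ y : S, t y * e y) - t x =
      ∑ y : S, t y.1 * (e y - if y.1 = x then 1 else 0) := by
    simp only [mul_sub, Finset.sum_sub_distrib, mul_ite, mul_one, mul_zero]
    congr 1
    rw [Finset.sum_eq_single (⟨x, hx⟩ : S)]
    · simp
    · intro y _ hy
      exact if_neg fun h => hy (Subtype.ext h)
    · simp
  rw [hsplit]
  refine AddValuation.map_le_sum _ fun y _ => ?_
  rw [AddValuation.map_mul]
  have hN : (n x - b x y.1).toNat ≤ N :=
    (Finset.le_sup (f := fun y => (n x - b x y).toNat) y.2).trans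
      (Finset.le_sup (f := fun x => S.sup fun y => (n x - b x y).toNat) hx)
  have h2 : ((N : ℤ) : WithTop ℤ) ≤ v x (e y - if y.1 = x then 1 else 0) := by
    by_cases h : y.1 = x
    · rw [if_pos h]; subst h; exact he1 y
    · rw [if_neg h, sub_zero]
      exact he2 y x (Finset.mem_erase.mpr ⟨Ne.symm h, hx⟩)
  by_cases ht : t y.1 = 0
  · simp [ht]
  obtain ⟨m, hm⟩ := WithTop.ne_top_iff_exists.mp ((AddValuation.ne_top_iff (v x)).mpr ht)
  have hb : b x y.1 = m := by simp [b, ← hm]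
  refine le_trans ?_ (add_le_add (le_of_eq hm) h2)
  rw [← WithTop.coe_add, WithTop.coe_le_coe]
  omega

end Approximation

end Groth.Agent.Lib.SmoothCurve.Ord
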