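import Groth.Agent.Lib.SmoothCurve.Local
import Mathlib.AlgebraicGeometry.Morphisms.Smooth
import Mathlib.AlgebraicGeometry.FunctionField
import Mathlib.AlgebraicGeometry.Noetherian
import Mathlib.AlgebraicGeometry.Properties
import Mathlib.AlgebraicGeometry.Morphisms.FiniteType
import Mathlib.RingTheory.KrullDimension.Field
import Mathlib.Topology.KrullDimension
import Mathlib.Topology.Sober

/-!
The local ring at a closed point of a smooth integral curve over an algebraically closed field is a
discrete valuation ring.
-/

set_option autoImplicit false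

universe u

open CategoryTheory AlgebraicGeometry TopologicalSpace

namespace Groth.Agent.Lib.SmoothCurve.Stalk

variable {X : Scheme.{u}}

/-- The coheight of a point is bounded by the Krull dimension of the space. -/
theorem coheight_le_topologicalKrullDim (x : X) :
    ((Order.coheight x : ℕ∞) : WithBot ℕ∞) ≤ topologicalKrullDim X := by
  refine (Order.coheight_le_krullDim x).trans ?_
  rw [topologicalKrullDim, ← Order.krullDim_eq_of_orderIso (irreducibleSetEquivPoints (α := X))]

theorem ne_genericPoint_of_isClosed [IsIntegral X] (hdim : topologicalKrullDim X ≠ 0)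
    {x : X} (hx : IsClosed ({x} : Set X)) : x ≠ genericPoint X := by
  rintro rfl
  apply hdim
  have huniv : ({genericPoint X} : Set X) = Set.univ := by
    rw [← hx.closure_eq]
    exact genericPoint_closure (α := X)
  haveI : Subsingleton X := ⟨fun a b => by
    have ha : a ∈ ({genericPoint X} : Set X) := huniv ▸ Set.mem_univ a
    have hb : b ∈ ({genericPoint X} : Set X) := huniv ▸ Set.mem_univ b
    exact (Set.mem_singleton_iff.mp ha).trans (Set.mem_singleton_iff.mp hb).symm⟩
  haveI : Nonempty X := ⟨genericPoint X⟩
  rw [topologicalKrullDim, ← Order.krullDim_eq_of_orderIso (irreducibleSetEquivPoints (α := X)).symm]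
  exact Order.krullDim_eq_zero

theorem not_isField_stalk [IsIntegral X] {x : X} (hx : x ≠ genericPoint X) :
    ¬ IsField (X.presheaf.stalk x) := by
  intro hf
  have h0 : ringKrullDim (X.presheaf.stalk x) = 0 := by
    letI := hf.toField
    exact ringKrullDim_eq_zero_of_field _
  rw [ringKrullDim_stalk_eq_coheight, WithBot.coe_eq_zero, Order.coheight_eq_zero] at h0
  have hle : x ≤ genericPoint X := ((genericPoint_spec X).specializes (by simp))
  exact hx (Specializes.antisymm (show x ⤳ genericPoint X from h0 hle) hle).eq

variable {k : Type u} [Field k] [IsAlgClosed k]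

theorem isDiscreteValuationRing_stalk [IsIntegral X] (c : X ⟶ Spec (CommRingCat.of k)) [Smooth c]
    (hdim : topologicalKrullDim X ≤ 1) {x : X} (hx : IsClosed ({x} : Set X))
    (hx' : x ≠ genericPoint X) :
    IsDiscreteValuationRing (X.presheaf.stalk x) := by
  obtain ⟨U, hU, V, hV, hxV, e, hst⟩ := Smooth.exists_isStandardSmooth c x
  obtain rfl : U = ⊤ := by
    ext y
    simp only [Opens.coe_top, Set.mem_univ, iff_true, SetLike.mem_coe]
    rw [Subsingleton.elim y (c.base x)]
    exact e hxV
  let χ : CommRingCat.of k ⟶ Γ(X, V) := (Scheme.ΓSpecIso _).inv ≫ c.appLE ⊤ V e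
  have hχ : χ.hom.IsStandardSmooth :=
    RingHom.isStandardSmooth_respectsIso.2 _ (Scheme.ΓSpecIso (CommRingCat.of k)).commRingCatIsoToRingEquiv.symm hst
  algebraize [χ.hom]
  haveI : Algebra.FiniteType k Γ(X, V) := inferInstance
  haveI : IsNoetherianRing Γ(X, V) := Algebra.FiniteType.isNoetherianRing k _
  haveI : IsDomain (X.presheaf.stalk x) := inferInstance
  let P := hV.primeIdealOf ⟨x, hxV⟩
  have hPc : IsClosed ({P} : Set (Spec Γ(X, V))) := by
    have h1 : (hV.fromSpec.base ⁻¹' {x}) = {P} := by
      ext q
      simp only [Set.mem_preimage, Set.mem_singleton_iff]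
      constructor
      · intro h
        exact hV.fromSpec.isOpenEmbedding.injective (h.trans (hV.fromSpec_primeIdealOf ⟨x, hxV⟩).symm)
      · rintro rfl
        exact hV.fromSpec_primeIdealOf ⟨x, hxV⟩
    rw [← h1]
    exact hx.preimage hV.fromSpec.continuous
  haveI hPmax : P.asIdeal.IsMaximal := (PrimeSpectrum.isClosed_singleton_iff_isMaximal _).mp hPc
  have hsurj : Function.Surjective (algebraMap k (Γ(X, V) ⧸ P.asIdeal)) := by
    letI : Field (Γ(X, V) ⧸ P.asIdeal) := Ideal.Quotient.field _
    haveI : Algebra.FiniteType k (Γ(X, V) ⧸ P.asIdeal) :=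
      Algebra.FiniteType.of_surjective (Ideal.Quotient.mkₐ k P.asIdeal) Ideal.Quotient.mk_surjective
    haveI : Module.Finite k (Γ(X, V) ⧸ P.asIdeal) := finite_of_finite_type_of_isJacobsonRing k _
    exact IsAlgClosed.algebraMap_bijective_of_isIntegral.2
  letI := X.presheaf.algebra_section_stalk ⟨x, hxV⟩
  haveI : IsLocalization.AtPrime (X.presheaf.stalk x) P.asIdeal := hV.isLocalization_stalk ⟨x, hxV⟩
  haveI : IsNoetherianRing (X.presheaf.stalk x) :=
    IsLocalization.isNoetherianRing P.asIdeal.primeCompl _ inferInstance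
  refine Local.isDiscreteValuationRing_of_height_le_one (k := k) P.asIdeal hsurj _ ?_
    (not_isField_stalk hx')
  have h1 := IsLocalization.AtPrime.ringKrullDim_eq_height P.asIdeal (X.presheaf.stalk x)
  rw [ringKrullDim_stalk_eq_coheight] at h1
  have h2 := (coheight_le_topologicalKrullDim x).trans hdim
  rw [h1] at h2
  exact_mod_cast h2

end Groth.Agent.Lib.SmoothCurve.Stalk
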