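import Groth.Prelude.Def_W4bk6serrecg25LocSym
import Groth.Agent.Lib.SmoothCurve.Stalk
import Groth.Agent.Lib.SmoothCurve.Ord
import Mathlib.AlgebraicGeometry.AlgClosed.Basic
import Mathlib.AlgebraicGeometry.ValuativeCriterion
import Mathlib.AlgebraicGeometry.Morphisms.Proper
import Mathlib.AlgebraicGeometry.Noetherian

/-!
Rational functions on a smooth proper integral curve over an algebraically closed field: the places
at rational points, finiteness of divisors, separation of places, global functions are constant,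
weak approximation.
-/

set_option autoImplicit false

universe u

open CategoryTheory AlgebraicGeometry TopologicalSpace Opposite

namespace Groth.Agent.Lib.SmoothCurve.Curve

variable {k : Type u} [Field k] [IsAlgClosed k] {X : Scheme.{u}}
  (c : X ⟶ Spec (CommRingCat.of k))

/-- The constants in a local ring. -/
noncomputable def stalkConst (x : X) : CommRingCat.of k ⟶ X.presheaf.stalk x :=
  (Scheme.ΓSpecIso (CommRingCat.of k)).inv ≫ c.appTop ≫ X.presheaf.germ ⊤ x trivial

omit [IsAlgClosed k] in
theorem fromSpecStalk_comp (x : X) :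
    X.fromSpecStalk x ≫ c = Spec.map (stalkConst c x) := by
  have h := Scheme.toSpecΓ_naturality c
  rw [← SpecMap_ΓSpecIso_hom] at h
  rw [stalkConst, Spec.map_comp, Spec.map_comp, ← Scheme.fromSpecStalk_toSpecΓ, Category.assoc,
    Category.assoc, ← reassoc_of% h, ← Spec.map_comp, Iso.inv_hom_id, Spec.map_id, Category.comp_id]

theorem residue_stalkConst_surjective [LocallyOfFiniteType c] {x : X}
    (hx : IsClosed ({x} : Set X)) :
    Function.Surjective fun a : k => X.residue x (stalkConst c x a) := by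
  have h : (residueFieldIsoBase c x hx).inv = stalkConst c x ≫ X.residue x := by
    apply Spec.map_injective
    rw [SpecMap_residueFieldIsoBase_inv, Spec.map_comp, ← fromSpecStalk_comp,
      Scheme.fromSpecResidueField, Category.assoc]
  intro y
  refine ⟨(residueFieldIsoBase c x hx).hom y, ?_⟩
  have := ConcreteCategory.congr_hom h ((residueFieldIsoBase c x hx).hom y)
  rw [CommRingCat.comp_apply] at this
  refine this.symm.trans ?_
  exact ConcreteCategory.congr_hom (residueFieldIsoBase c x hx).hom_inv_id y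

section Points

variable [LocallyOfFiniteType c]

theorem isClosed_pt (x : LocSym.Pt c) : IsClosed ({x.pt} : Set X) :=
  (pointEquivClosedPoint c x).2

theorem pt_injective : Function.Injective (LocSym.Pt.pt (c := c)) := fun x y h =>
  Subtype.ext (ext_of_apply_closedPoint_eq c x.2 y.2 h)

theorem exists_pt {x : X} (hx : IsClosed ({x} : Set X)) : ∃ p : LocSym.Pt c, p.pt = x :=
  ⟨⟨pointOfClosedPoint c x hx, pointOfClosedPoint_comp c x hx⟩, pointOfClosedPoint_apply c x hx _⟩

end Points

omit [IsAlgClosed k] in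
/-- Uniqueness in the valuative criterion. -/
theorem lift_unique [IsSeparated c] (R K : Type u) [CommRing R] [IsDomain R] [ValuationRing R]
    [Field K] [Algebra R K] [IsFractionRing R K] (l₁ l₂ : Spec (CommRingCat.of R) ⟶ X)
    (h₁ : Spec.map (CommRingCat.ofHom (algebraMap R K)) ≫ l₁ =
      Spec.map (CommRingCat.ofHom (algebraMap R K)) ≫ l₂)
    (h₂ : l₁ ≫ c = l₂ ≫ c) : l₁ = l₂ := by
  let S : ValuativeCommSq c :=
    { R := R
      K := K
      i₁ := Spec.map (CommRingCat.ofHom (algebraMap R K)) ≫ l₁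
      i₂ := l₁ ≫ c
      commSq := ⟨by rw [Category.assoc]⟩ }
  exact congrArg CommSq.LiftStruct.l ((IsSeparated.valuativeCriterion (f := c) S).elim
    { l := l₁, fac_left := rfl, fac_right := rfl }
    { l := l₂, fac_left := h₁.symm, fac_right := h₂.symm })

variable [IsIntegral X]

theorem algebraMap_stalkConst (x : X) (a : k) :
    algebraMap (X.presheaf.stalk x) X.functionField (stalkConst c x a) = LocSym.constFun c a :=
  haveI : Nonempty (⊤ : X.Opens) := ⟨⟨x, trivial⟩⟩
  Scheme.algebraMap_germ_eq_germToFunctionField (X := X) (U := ⊤) (x := x) trivial _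

/-- Separatedness: two points whose local rings agree inside the function field are equal. -/
theorem eq_of_stalkHom [IsSeparated c] {x y : X} [ValuationRing (X.presheaf.stalk y)]
    (Φ : X.presheaf.stalk x ⟶ X.presheaf.stalk y) [IsLocalHom Φ.hom]
    (hΦ : Φ ≫ X.presheaf.stalkSpecializes ((genericPoint_spec X).specializes trivial) =
      X.presheaf.stalkSpecializes ((genericPoint_spec X).specializes trivial))
    (hc : stalkConst c x ≫ Φ = stalkConst c y) : x = y := by
  haveI : IsDomain (X.presheaf.stalk y) := inferInstance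
  have h1 := Scheme.SpecMap_stalkSpecializes_fromSpecStalk (X := X)
    (x := genericPoint X) (y := x) ((genericPoint_spec X).specializes trivial)
  have h2 := Scheme.SpecMap_stalkSpecializes_fromSpecStalk (X := X)
    (x := genericPoint X) (y := y) ((genericPoint_spec X).specializes trivial)
  have heq : X.fromSpecStalk y = Spec.map Φ ≫ X.fromSpecStalk x := by
    refine lift_unique c (X.presheaf.stalk y) X.functionField _ _ ?_ ?_
    · show Spec.map (X.presheaf.stalkSpecializes ((genericPoint_spec X).specializes trivial)) ≫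
          X.fromSpecStalk y =
        Spec.map (X.presheaf.stalkSpecializes ((genericPoint_spec X).specializes trivial)) ≫
          Spec.map Φ ≫ X.fromSpecStalk x
      rw [← Spec.map_comp_assoc, hΦ, h1, h2]
    · show X.fromSpecStalk y ≫ c = (Spec.map Φ ≫ X.fromSpecStalk x) ≫ c
      rw [Category.assoc, fromSpecStalk_comp, fromSpecStalk_comp, ← Spec.map_comp, hc]
  have := congrArg (fun f : Spec (X.presheaf.stalk y) ⟶ X =>
    f (IsLocalRing.closedPoint (X.presheaf.stalk y))) heq
  simp only [Scheme.fromSpecStalk_closedPoint, Scheme.Hom.comp_apply] at this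
  rw [this]
  exact ((congrArg (X.fromSpecStalk x) (IsLocalRing.comap_closedPoint Φ.hom)).trans
    Scheme.fromSpecStalk_closedPoint).symm

section Dim

variable (hdim : topologicalKrullDim X = 1)

include hdim

theorem eq_genericPoint_or_isClosed (z : X) : z = genericPoint X ∨ IsClosed ({z} : Set X) := by
  by_contra h
  push Not at h
  have hcl : ¬ closure ({z} : Set X) ⊆ {z} :=
    fun hc => h.2 (closure_subset_iff_isClosed.mp hc)
  obtain ⟨w, hw, hwz⟩ := Set.not_subset.mp hcl
  have h1 : z < genericPoint X := by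
    refine lt_of_le_not_ge ((genericPoint_spec X).specializes trivial) fun hle => h.1 ?_
    exact (Specializes.antisymm (show z ⤳ genericPoint X from hle)
      ((genericPoint_spec X).specializes trivial)).eq
  have h2 : w < z := by
    refine lt_of_le_not_ge (specializes_iff_mem_closure.mpr hw) fun hle => hwz ?_
    exact (Specializes.antisymm (show w ⤳ z from hle) (specializes_iff_mem_closure.mpr hw)).eq
  let s : LTSeries X :=
    ⟨2, ![w, z, genericPoint X], fun i => by fin_cases i <;> simp [h1, h2]⟩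
  have h3 : ((2 : ℕ) : WithBot ℕ∞) ≤ Order.krullDim X := Order.LTSeries.length_le_krullDim s
  rw [Order.krullDim_eq_of_orderIso (irreducibleSetEquivPoints (α := X)).symm] at h3
  rw [← topologicalKrullDim, hdim] at h3
  exact absurd h3 (by decide)

theorem finite_of_isClosed [NoetherianSpace X] {Z : Set X} (hZ : IsClosed Z)
    (hgen : genericPoint X ∉ Z) : Z.Finite := by
  obtain ⟨S, hSf, hSc, hSi, rfl⟩ := NoetherianSpace.exists_finite_set_isClosed_irreducible hZ
  refine hSf.sUnion fun T hT => ?_
  have hTg := (hSi T hT).isGenericPoint_genericPoint (hSc T hT)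
  have hmem : (hSi T hT).genericPoint ∈ ⋃₀ S := ⟨T, hT, hTg.mem⟩
  rcases eq_genericPoint_or_isClosed hdim (hSi T hT).genericPoint with h | h
  · exact absurd (h ▸ hmem) hgen
  · rw [← hTg.def, h.closure_eq]
    exact Set.finite_singleton _

variable [Smooth c]

theorem isDVR (x : LocSym.Pt c) : IsDiscreteValuationRing (X.presheaf.stalk x.pt) :=
  Stalk.isDiscreteValuationRing_stalk c hdim.le (isClosed_pt c x)
    (Stalk.ne_genericPoint_of_isClosed (by rw [hdim]; exact one_ne_zero) (isClosed_pt c x))

/-- The place of a rational point. -/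
noncomputable def val (x : LocSym.Pt c) : AddValuation X.functionField (WithTop ℤ) :=
  haveI := isDVR c hdim x
  Ord.val (X.presheaf.stalk x.pt)

theorem val_apply (x : LocSym.Pt c) {g : X.functionField} (hg : g ≠ 0) :
    val c hdim x g = ((x.ord g : ℤ) : WithTop ℤ) :=
  haveI := isDVR c hdim x
  Ord.val_apply _ hg

theorem coe_le_val_iff (x : LocSym.Pt c) {g : X.functionField} (n : ℤ) :
    (n : WithTop ℤ) ≤ val c hdim x g ↔ g = 0 ∨ n ≤ x.ord g :=
  haveI := isDVR c hdim x
  Ord.coe_le_val_iff _ n

theorem zero_le_val_iff (x : LocSym.Pt c) {g : X.functionField} :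
    0 ≤ val c hdim x g ↔ ∃ a, algebraMap (X.presheaf.stalk x.pt) X.functionField a = g :=
  haveI := isDVR c hdim x
  Ord.zero_le_val_iff _

theorem ord_zero (x : LocSym.Pt c) : x.ord (0 : X.functionField) = 0 :=
  haveI := isDVR c hdim x
  Ord.ordFrac_zero _

theorem ord_one (x : LocSym.Pt c) : x.ord (1 : X.functionField) = 0 :=
  haveI := isDVR c hdim x
  Ord.ordFrac_one _

theorem ord_mul (x : LocSym.Pt c) {f g : X.functionField} (hf : f ≠ 0) (hg : g ≠ 0) :
    x.ord (f * g) = x.ord f + x.ord g :=
  haveI := isDVR c hdim x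
  Ord.ordFrac_mul _ hf hg

theorem ord_inv (x : LocSym.Pt c) (f : X.functionField) : x.ord f⁻¹ = - x.ord f := by
  by_cases hf : f = 0
  · simp [hf, ord_zero c hdim x]
  have := ord_mul c hdim x hf (inv_ne_zero hf)
  rw [mul_inv_cancel₀ hf, ord_one c hdim x] at this
  omega

theorem ord_div (x : LocSym.Pt c) {f g : X.functionField} (hf : f ≠ 0) (hg : g ≠ 0) :
    x.ord (f / g) = x.ord f - x.ord g := by
  rw [div_eq_mul_inv, ord_mul c hdim x hf (inv_ne_zero hg), ord_inv c hdim x g]
  omega

theorem ord_pow (x : LocSym.Pt c) {f : X.functionField} (hf : f ≠ 0) (n : ℕ) :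
    x.ord (f ^ n) = n * x.ord f := by
  induction n with
  | zero => simp [ord_one c hdim x]
  | succ n ih =>
    rw [pow_succ, ord_mul c hdim x (pow_ne_zero _ hf) hf, ih]
    push_cast
    ring

theorem exists_ord_eq (x : LocSym.Pt c) (n : ℤ) :
    ∃ f : X.functionField, f ≠ 0 ∧ x.ord f = n := by
  haveI := isDVR c hdim x
  obtain ⟨ϖ, hϖ⟩ := IsDiscreteValuationRing.exists_irreducible (X.presheaf.stalk x.pt)
  set p := algebraMap (X.presheaf.stalk x.pt) X.functionField ϖ with hp
  have hp0 : p ≠ 0 := Ord.algebraMap_ne_zero _ hϖ.ne_zero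
  have hp1 : x.ord p = 1 := Ord.ordFrac_algebraMap_irreducible _ hϖ
  rcases n.eq_nat_or_neg with ⟨m, rfl | rfl⟩
  · exact ⟨p ^ m, pow_ne_zero _ hp0, by rw [ord_pow c hdim x hp0, hp1, mul_one]⟩
  · exact ⟨(p ^ m)⁻¹, inv_ne_zero (pow_ne_zero _ hp0),
      by rw [ord_inv c hdim x, ord_pow c hdim x hp0, hp1, mul_one]⟩

theorem ord_constFun (x : LocSym.Pt c) (a : k) : x.ord (LocSym.constFun c a) = 0 := by
  haveI := isDVR c hdim x
  by_cases ha : a = 0
  · simp [ha, ord_zero c hdim x]
  have hu : IsUnit (stalkConst c x.pt a) := (isUnit_iff_ne_zero.mpr ha).map (stalkConst c x.pt).hom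
  rw [← algebraMap_stalkConst c x.pt a]
  exact (Ord.ordFrac_algebraMap_eq_zero_iff _ hu.ne_zero).mpr hu

theorem exists_value (x : LocSym.Pt c) {g : X.functionField} (hg : 0 ≤ val c hdim x g) :
    ∃ a : k, 0 < val c hdim x (g - LocSym.constFun c a) := by
  haveI := isDVR c hdim x
  obtain ⟨r, rfl⟩ := (zero_le_val_iff c hdim x).mp hg
  obtain ⟨a, ha⟩ := residue_stalkConst_surjective c (isClosed_pt c x) (X.residue x.pt r)
  refine ⟨a, ?_⟩
  rw [← algebraMap_stalkConst c x.pt a, ← map_sub]
  refine (Ord.zero_lt_val_algebraMap_iff _).mpr ?_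
  rw [← IsLocalRing.residue_eq_zero_iff, map_sub, sub_eq_zero]
  exact ha.symm

theorem exists_val_neg (x : LocSym.Pt c) : ∃ a : X.functionField, val c hdim x a < 0 := by
  obtain ⟨f, hf, h⟩ := exists_ord_eq c hdim x (-1)
  refine ⟨f, ?_⟩
  rw [val_apply c hdim x hf, h, ← WithTop.coe_zero, WithTop.coe_lt_coe]
  decide

variable [IsProper c]

theorem finite_ord_ne_zero (g : X.functionField) : {x : LocSym.Pt c | x.ord g ≠ 0}.Finite := by
  by_cases hg : g = 0
  · convert Set.finite_empty
    ext x
    simp [hg, ord_zero c hdim x]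
  haveI : CompactSpace X := (quasiCompact_iff_compactSpace c).mp inferInstance
  haveI : IsLocallyNoetherian X := LocallyOfFiniteType.isLocallyNoetherian c
  haveI : IsNoetherian X := ⟨⟩
  obtain ⟨V₁, h₁, s₁, hs₁⟩ := X.presheaf.germ_exist (x := genericPoint X) g
  obtain ⟨V₂, h₂, s₂, hs₂⟩ := X.presheaf.germ_exist (x := genericPoint X) g⁻¹
  refine Set.Finite.subset ((finite_of_isClosed hdim (V₁ ⊓ V₂).isOpen.isClosed_compl
    (fun h => h ⟨h₁, h₂⟩)).preimage (pt_injective c).injOn) fun x hx => ?_
  intro hmem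
  apply hx
  haveI := isDVR c hdim x
  haveI : Nonempty V₁ := ⟨⟨_, h₁⟩⟩
  haveI : Nonempty V₂ := ⟨⟨_, h₂⟩⟩
  have e₁ : algebraMap (X.presheaf.stalk x.pt) X.functionField
      (X.presheaf.germ V₁ x.pt hmem.1 s₁) = g :=
    (Scheme.algebraMap_germ_eq_germToFunctionField (X := X) hmem.1 s₁).trans hs₁
  have e₂ : algebraMap (X.presheaf.stalk x.pt) X.functionField
      (X.presheaf.germ V₂ x.pt hmem.2 s₂) = g⁻¹ :=
    (Scheme.algebraMap_germ_eq_germToFunctionField (X := X) hmem.2 s₂).trans hs₂
  have i₁ : 0 ≤ x.ord g := (Ord.ordFrac_nonneg_iff _ hg).mpr ⟨_, e₁⟩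
  have i₂ : 0 ≤ x.ord g⁻¹ := (Ord.ordFrac_nonneg_iff _ (inv_ne_zero hg)).mpr ⟨_, e₂⟩
  rw [ord_inv c hdim x] at i₂
  omega

theorem exists_val_nonneg_neg (x y : LocSym.Pt c) (hxy : x ≠ y) :
    ∃ a : X.functionField, 0 ≤ val c hdim x a ∧ val c hdim y a < 0 := by
  by_contra h
  push Not at h
  haveI := isDVR c hdim x
  haveI := isDVR c hdim y
  -- the two local rings agree inside the function field
  have hyx : ∀ a : X.functionField, 0 ≤ val c hdim y a → 0 ≤ val c hdim x a := by
    intro a ha
    by_contra hxa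
    have ha0 : a ≠ 0 := by rintro rfl; exact hxa (by simp)
    rw [val_apply c hdim x ha0, ← WithTop.coe_zero, WithTop.coe_le_coe, not_le] at hxa
    rw [val_apply c hdim y ha0, ← WithTop.coe_zero, WithTop.coe_le_coe] at ha
    obtain ⟨b, hb0, hb⟩ := exists_ord_eq c hdim y (-1)
    set N : ℕ := (x.ord b).natAbs
    have hne : b * (a ^ N)⁻¹ ≠ 0 := mul_ne_zero hb0 (inv_ne_zero (pow_ne_zero _ ha0))
    have h1 := h (b * (a ^ N)⁻¹) (by
      rw [val_apply c hdim x hne, ← WithTop.coe_zero, WithTop.coe_le_coe,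
        ord_mul c hdim x hb0 (inv_ne_zero (pow_ne_zero _ ha0)), ord_inv c hdim x,
        ord_pow c hdim x ha0]
      have := Int.mul_le_mul_of_nonneg_left (show x.ord a ≤ -1 by omega) (show (0 : ℤ) ≤ N by omega)
      omega)
    rw [val_apply c hdim y hne, ← WithTop.coe_zero, WithTop.coe_le_coe,
      ord_mul c hdim y hb0 (inv_ne_zero (pow_ne_zero _ ha0)), ord_inv c hdim y,
      ord_pow c hdim y ha0, hb] at h1
    have := Int.mul_nonneg (show (0 : ℤ) ≤ N by omega) ha
    omega
  let ιx := algebraMap (X.presheaf.stalk x.pt) X.functionField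
  let ιy := algebraMap (X.presheaf.stalk y.pt) X.functionField
  have hix : Function.Injective ιx := IsFractionRing.injective _ _
  have hiy : Function.Injective ιy := IsFractionRing.injective _ _
  have hex : ∀ r, ∃ s, ιy s = ιx r := fun r =>
    (zero_le_val_iff c hdim y).mp (h _ ((zero_le_val_iff c hdim x).mpr ⟨r, rfl⟩))
  choose φ hφ using hex
  let Φ : X.presheaf.stalk x.pt →+* X.presheaf.stalk y.pt :=
    { toFun := φ
      map_one' := hiy (by rw [hφ, map_one, map_one])
      map_mul' := fun a b => hiy (by rw [hφ, map_mul, map_mul, hφ, hφ])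
      map_zero' := hiy (by rw [hφ, map_zero, map_zero])
      map_add' := fun a b => hiy (by rw [hφ, map_add, map_add, hφ, hφ]) }
  have hΦ : ∀ r, ιy (Φ r) = ιx r := hφ
  have hbij : Function.Bijective Φ := by
    refine ⟨fun a b hab => hix ?_, fun s => ?_⟩
    · rw [← hΦ, ← hΦ, hab]
    · obtain ⟨r, hr⟩ := (zero_le_val_iff c hdim x).mp
        (hyx _ ((zero_le_val_iff c hdim y).mpr ⟨s, rfl⟩))
      exact ⟨r, hiy ((hΦ r).trans hr)⟩
  let e := RingEquiv.ofBijective Φ hbij
  haveI : IsLocalHom (CommRingCat.ofHom Φ).hom := ⟨fun a ha => by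
    have := ha.map (e.symm : X.presheaf.stalk y.pt →+* X.presheaf.stalk x.pt)
    exact (e.symm_apply_apply a) ▸ this⟩
  refine hxy (pt_injective c (eq_of_stalkHom c (CommRingCat.ofHom Φ) ?_ ?_))
  · ext r; exact hΦ r
  · ext a
    apply hiy
    exact ((hΦ _).trans (algebraMap_stalkConst c x.pt a)).trans (algebraMap_stalkConst c y.pt a).symm

/-- Weak approximation. -/
theorem exists_near (S : Finset (LocSym.Pt c)) (t : LocSym.Pt c → X.functionField)
    (n : LocSym.Pt c → ℤ) :
    ∃ g : X.functionField, ∀ x ∈ S, (n x : WithTop ℤ) ≤ val c hdim x (g - t x) :=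
  Ord.exists_forall_le_val_sub (val c hdim) (exists_val_neg c hdim)
    (exists_val_nonneg_neg c hdim) S t n

/-- A rational function without poles is constant. -/
theorem exists_eq_constFun {g : X.functionField} (h : ∀ x : LocSym.Pt c, 0 ≤ x.ord g) :
    ∃ a : k, g = LocSym.constFun c a := by
  by_cases hg : g = 0
  · exact ⟨0, by rw [hg, map_zero]⟩
  have hgerm : ∀ z : X, ∃ r, algebraMap (X.presheaf.stalk z) X.functionField r = g := by
    intro z
    rcases eq_genericPoint_or_isClosed hdim z with rfl | hz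
    · refine ⟨g, ?_⟩
      simp [RingHom.algebraMap_toAlgebra]
    · obtain ⟨p, rfl⟩ := exists_pt c hz
      refine (zero_le_val_iff c hdim p).mp ?_
      rw [val_apply c hdim p hg, ← WithTop.coe_zero, WithTop.coe_le_coe]
      exact h p
  choose r hr using hgerm
  choose U hU s hs using fun z => X.presheaf.germ_exist (x := z) (r z)
  have hgen : ∀ z, genericPoint X ∈ U z := fun z =>
    ((genericPoint_spec X).mem_open_set_iff (U z).isOpen).mpr ⟨z, trivial, hU z⟩
  have hsg : ∀ z, X.presheaf.germ (U z) (genericPoint X) (hgen z) (s z) = g := by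
    intro z
    haveI : Nonempty (U z) := ⟨⟨_, hgen z⟩⟩
    rw [← hr z, ← hs z]
    exact (Scheme.algebraMap_germ_eq_germToFunctionField (X := X) (hU z) (s z)).symm
  have hcov : (⊤ : X.Opens) ≤ iSup U := fun z _ => Opens.mem_iSup.mpr ⟨z, hU z⟩
  have hcompat : TopCat.Presheaf.IsCompatible X.sheaf.1 U s := by
    intro i j
    apply germ_injective_of_isIntegral X (genericPoint X)
      (show genericPoint X ∈ U i ⊓ U j from ⟨hgen i, hgen j⟩)
    erw [TopCat.Presheaf.germ_res_apply, TopCat.Presheaf.germ_res_apply]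
    exact (hsg i).trans (hsg j).symm
  obtain ⟨t, ht, -⟩ := X.sheaf.existsUnique_gluing' U ⊤ (fun i => homOfLE le_top) hcov s hcompat
  have htg : X.presheaf.germ ⊤ (genericPoint X) trivial t = g := by
    rw [← hsg (genericPoint X), ← ht (genericPoint X)]
    exact (TopCat.Presheaf.germ_res_apply _ _ _ _ _).symm
  let F := (Scheme.ΓSpecIso (CommRingCat.of k)).inv ≫ c.appTop
  have hfin : F.hom.Finite := by
    apply RingHom.finite_respectsIso.2 (e := (Scheme.ΓSpecIso (CommRingCat.of k)).symm.commRingCatIsoToRingEquiv)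
    exact finite_appTop_of_universallyClosed k c
  algebraize [F.hom]
  haveI : IsDomain Γ(X, ⊤) := inferInstance
  obtain ⟨a, ha⟩ := (IsAlgClosed.algebraMap_bijective_of_isIntegral (k := k) (K := Γ(X, ⊤))).2 t
  refine ⟨a, ?_⟩
  rw [← htg, ← ha]
  rfl

end Dim

end Groth.Agent.Lib.SmoothCurve.Curve
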