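import Mathlib.RingTheory.Smooth.StandardSmooth
import Mathlib.RingTheory.Extension.Presentation.Submersive
import Mathlib.RingTheory.Ideal.KrullsHeightTheorem
import Mathlib.RingTheory.DiscreteValuationRing.TFAE
import Mathlib.RingTheory.Nakayama
import Mathlib.RingTheory.Polynomial.Basic
import Mathlib.RingTheory.Jacobson.Ring
import Mathlib.FieldTheory.IsAlgClosed.Basic
import Mathlib.Algebra.MvPolynomial.PDeriv
import Mathlib.LinearAlgebra.Matrix.NonsingularInverse

/-!
Jacobian criterion in its simplest form: for a standard smooth algebra `A = k[X_ι]/(f_σ)` over a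
field and a `k`-rational maximal ideal `M`, the maximal ideal of `A_M` is generated by
`#ι - #σ` elements and `#ι - #σ ≤ height M`. In particular, if `A` is a domain and `M` has height
at most one, `A_M` is a field or a discrete valuation ring.
-/

set_option autoImplicit false

namespace Groth.Agent.Lib.SmoothCurve.Local

open MvPolynomial

section Poly

variable {k : Type*} [Field k] {ι : Type*} [Finite ι] (a : ι → k)

/-- The maximal ideal of a rational point of affine space. -/
noncomputable abbrev ptIdeal : Ideal (MvPolynomial ι k) :=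
  RingHom.ker (aeval a : MvPolynomial ι k →ₐ[k] k)

omit [Finite ι] in
theorem X_sub_C_mem_ptIdeal (i : ι) : X i - C (a i) ∈ ptIdeal a := by
  simp [RingHom.mem_ker]

theorem card_le_height_ptIdeal : (Nat.card ι : ℕ∞) ≤ (ptIdeal a).height := by
  classical
  have : Fintype ι := Fintype.ofFinite ι
  let e : ι ≃ Fin (Fintype.card ι) := Fintype.equivFin ι
  let g : ℕ → (MvPolynomial ι k →ₐ[k] MvPolynomial ι k) :=
    fun n => aeval fun i => if (e i : ℕ) < n then C (a i) else X i
  have hmono : ∀ n, RingHom.ker (g n) ≤ RingHom.ker (g (n + 1)) := by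
    intro n p hp
    have hc : g (n + 1) = (g (n + 1)).comp (g n) := by
      apply MvPolynomial.algHom_ext
      intro i
      simp only [g, AlgHom.comp_apply, aeval_X]
      by_cases h1 : (e i : ℕ) < n
      · rw [if_pos h1, if_pos (by omega)]; simp
      · rw [if_neg h1]; simp
    rw [RingHom.mem_ker] at hp ⊢
    rw [hc, AlgHom.comp_apply, hp, map_zero]
  have key : ∀ n, n ≤ Fintype.card ι → (n : ℕ∞) ≤ (RingHom.ker (g n)).height := by
    intro n
    induction n with
    | zero => intro _; exact bot_le
    | succ n ih =>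
      intro hn
      have hlt : RingHom.ker (g n) < RingHom.ker (g (n + 1)) := by
        refine lt_of_le_of_ne (hmono n) fun he => ?_
        let i := e.symm ⟨n, by omega⟩
        have hi : (e i : ℕ) = n := by simp [i]
        have h1 : X i - C (a i) ∈ RingHom.ker (g (n + 1)) := by simp [g, hi]
        rw [← he] at h1
        simp [g, hi, sub_eq_zero] at h1
        have := congrArg (fun p : MvPolynomial ι k => p.totalDegree) h1
        simp at this
      haveI : ∀ m, (RingHom.ker (g m)).IsPrime := fun m => RingHom.ker_isPrime _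
      refine le_trans ?_ (Ideal.height_add_one_le_of_lt_of_isPrime hlt)
      push_cast
      exact add_le_add (ih (by omega)) le_rfl
  rw [Nat.card_eq_fintype_card]
  refine (key _ le_rfl).trans (Ideal.height_mono ?_)
  intro p hp
  have hc : (aeval a : MvPolynomial ι k →ₐ[k] k) = (aeval a).comp (g (Fintype.card ι)) := by
    apply MvPolynomial.algHom_ext
    intro i
    simp [g, (e i).isLt]
  rw [RingHom.mem_ker] at hp ⊢
  rw [hc, AlgHom.comp_apply, hp, map_zero]

theorem sub_linear_part_mem [Fintype ι] (p : MvPolynomial ι k) :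
    p - C (aeval a p) - ∑ i, C (aeval a (pderiv i p)) * (X i - C (a i)) ∈
      Ideal.span (Set.range fun i : ι => X i - C (a i)) ^ 2 := by
  classical
  induction p using MvPolynomial.induction_on with
  | C c => simp
  | add p q hp hq =>
    have := Ideal.add_mem _ hp hq
    convert this using 1
    simp only [map_add, add_mul, Finset.sum_add_distrib]
    ring
  | mul_X p j hp =>
    set J := Ideal.span (Set.range fun i : ι => X i - C (a i))
    set L := ∑ i, C (aeval a (pderiv i p)) * (X i - C (a i)) with hL
    have hLJ : L ∈ J := Ideal.sum_mem _ fun i _ =>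
      Ideal.mul_mem_left _ _ (Ideal.subset_span ⟨i, rfl⟩)
    have hXJ : X j - C (a j) ∈ J := Ideal.subset_span ⟨j, rfl⟩
    have h2 : L * (X j - C (a j)) ∈ J ^ 2 := by rw [pow_two]; exact Ideal.mul_mem_mul hLJ hXJ
    have h3 := Ideal.add_mem _ (Ideal.mul_mem_right (X j) _ hp) h2
    convert h3 using 1
    have hsum : (∑ i, C (aeval a (pderiv i (p * X j))) * (X i - C (a i))) =
        C (a j) * L + C (aeval a p) * (X j - C (a j)) := by
      simp only [pderiv_mul, pderiv_X, map_add, map_mul, aeval_X, add_mul, Finset.sum_add_distrib]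
      congr 1
      · rw [hL, Finset.mul_sum]
        exact Finset.sum_congr rfl fun i _ => by ring
      · rw [Finset.sum_eq_single j]
        · simp
        · intro i _ hi
          simp [Pi.single_apply, Ne.symm hi]
        · simp
    rw [hsum]
    simp only [map_mul, aeval_X]
    ring

theorem ptIdeal_eq_span : ptIdeal a = Ideal.span (Set.range fun i : ι => X i - C (a i)) := by
  have : Fintype ι := Fintype.ofFinite ι
  refine le_antisymm (fun p hp => ?_) (Ideal.span_le.mpr ?_)
  · have h := Ideal.pow_le_self two_ne_zero (sub_linear_part_mem a p)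
    rw [RingHom.mem_ker] at hp
    rw [hp, map_zero, sub_zero] at h
    have h' : (∑ i, C (aeval a (pderiv i p)) * (X i - C (a i))) ∈
        Ideal.span (Set.range fun i : ι => X i - C (a i)) :=
      Ideal.sum_mem _ fun i _ => Ideal.mul_mem_left _ _ (Ideal.subset_span ⟨i, rfl⟩)
    simpa using Ideal.add_mem _ h h'
  · rintro _ ⟨i, rfl⟩
    exact X_sub_C_mem_ptIdeal a i

end Poly

section Smooth

variable {k A : Type*} [Field k] [CommRing A] [Algebra k A] [Algebra.IsStandardSmooth k A]
  (M : Ideal A) [M.IsMaximal] (hM : Function.Surjective (algebraMap k (A ⧸ M)))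
  (R : Type*) [CommRing R] [Algebra A R] [IsLocalization.AtPrime R M]

include hM in
/-- The maximal ideal of the local ring at a rational point of a standard smooth algebra is
generated by at most `height M` elements. -/
theorem exists_generators_maximalIdeal [IsLocalRing R] [IsNoetherianRing R] :
    ∃ s : Set R, s.Finite ∧ (s.ncard : ℕ∞) ≤ M.height ∧
      IsLocalRing.maximalIdeal R = Ideal.span s := by
  classical
  obtain ⟨ι, σ, hσ, hι, ⟨P⟩⟩ := ‹Algebra.IsStandardSmooth k A›.out
  have : Fintype ι := Fintype.ofFinite ι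
  have : Fintype σ := Fintype.ofFinite σ
  have hcard : ∀ i, ∃ c : k, P.val i - algebraMap k A c ∈ M := fun i => by
    obtain ⟨c, hc⟩ := hM (Ideal.Quotient.mk M (P.val i))
    exact ⟨c, (Ideal.Quotient.mk_eq_mk_iff_sub_mem _ _).mp hc.symm⟩
  choose a ha using hcard
  let φ : MvPolynomial ι k →ₐ[k] A := aeval P.val
  have hφ : Function.Surjective φ := fun x => ⟨P.σ x, P.aeval_val_σ x⟩
  have hker : RingHom.ker φ = Ideal.span (Set.range P.relation) := by
    rw [P.span_range_relation_eq_ker, P.ker_eq_ker_aeval_val]
  have hmk : ∀ p, Ideal.Quotient.mk M (φ p) = algebraMap k (A ⧸ M) (aeval a p) := by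
    intro p
    refine DFunLike.congr_fun (MvPolynomial.algHom_ext
      (f := (Ideal.Quotient.mkₐ k M).comp φ) (g := (Algebra.ofId k (A ⧸ M)).comp (aeval a)) ?_) p
    intro i
    simp only [AlgHom.comp_apply, φ, aeval_X, Ideal.Quotient.mkₐ_eq_mk, Algebra.ofId_apply]
    exact (Ideal.Quotient.mk_eq_mk_iff_sub_mem _ _).mpr (ha i)
  have hcomap : M.comap φ = ptIdeal a := by
    ext p
    rw [Ideal.mem_comap, RingHom.mem_ker, ← Ideal.Quotient.eq_zero_iff_mem, hmk]
    exact map_eq_zero_iff _ (algebraMap k (A ⧸ M)).injective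
  have hmap : M = (ptIdeal a).map φ := by
    rw [← hcomap, Ideal.map_comap_of_surjective _ hφ]
  -- height bound
  haveI : (ptIdeal a).IsPrime := RingHom.ker_isPrime _
  have hIq : RingHom.ker φ ≤ ptIdeal a := by
    rw [← hcomap]
    intro p hp
    simp [Ideal.mem_comap, RingHom.mem_ker.mp hp]
  have hh := Ideal.height_le_height_add_spanFinrank_of_le hIq
  have hquot : ((ptIdeal a).map (Ideal.Quotient.mk (RingHom.ker φ))).height = M.height := by
    let e := Ideal.quotientKerAlgEquivOfSurjective hφ
    rw [← e.toRingEquiv.height_map, hmap]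
    congr 1
    exact Ideal.map_map _ _
  rw [hquot] at hh
  have hrank : (RingHom.ker φ).spanFinrank ≤ Fintype.card σ := by
    rw [hker]
    refine (Submodule.spanFinrank_span_le_ncard_of_finite (Set.finite_range _)).trans ?_
    rw [← Set.image_univ]
    exact (Set.ncard_image_le Set.finite_univ).trans (by simp [Set.ncard_univ])
  have hN : (Fintype.card ι : ℕ∞) ≤ M.height + (Fintype.card σ : ℕ) := by
    refine le_trans ?_ (hh.trans (add_le_add le_rfl (Nat.cast_le.mpr hrank)))
    simpa [Nat.card_eq_fintype_card] using card_le_height_ptIdeal a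
  -- generators
  let ψ : MvPolynomial ι k →+* R := (algebraMap A R).comp φ.toRingHom
  have h𝔪 : IsLocalRing.maximalIdeal R = (ptIdeal a).map ψ := by
    rw [← IsLocalization.AtPrime.map_eq_maximalIdeal M R]
    conv_lhs => rw [hmap]
    exact Ideal.map_map _ _
  let t : ι → R := fun i => ψ (X i - C (a i))
  have ht : IsLocalRing.maximalIdeal R = Ideal.span (Set.range t) := by
    rw [h𝔪, ptIdeal_eq_span, Ideal.map_span, ← Set.range_comp]
    rfl
  let S : Set R := t '' (Set.range P.map)ᶜ
  refine ⟨S, Set.toFinite _, ?_, ?_⟩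
  · have hc : ((Set.range P.map)ᶜ.ncard) + Fintype.card σ = Fintype.card ι := by
      rw [← Nat.card_eq_fintype_card (α := ι), ← Set.ncard_add_ncard_compl (Set.range P.map),
        Set.ncard_range_of_injective P.map_inj, Nat.card_eq_fintype_card, add_comm]
    have hle : S.ncard ≤ (Set.range P.map)ᶜ.ncard := Set.ncard_image_le (Set.toFinite _)
    rw [← hc] at hN
    push_cast at hN
    exact (Nat.cast_le.mpr hle).trans ((WithTop.add_le_add_iff_right (ENat.coe_ne_top _)).mp hN)
  · refine le_antisymm ?_ (Ideal.span_le.mpr ?_)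
    swap
    · rintro _ ⟨i, -, rfl⟩
      rw [ht]
      exact Ideal.subset_span ⟨i, rfl⟩
    refine Submodule.le_of_le_smul_of_le_jacobson_bot
      (IsLocalRing.maximalIdeal R).fg_of_isNoetherianRing
      (IsLocalRing.jacobson_eq_maximalIdeal ⊥ bot_ne_top).ge ?_
    conv_lhs => rw [ht]
    rw [smul_eq_mul, ← pow_two]
    set N : Ideal R := Ideal.span S ⊔ IsLocalRing.maximalIdeal R ^ 2
    -- linear relations
    let Jm : Matrix σ σ R :=
      Matrix.of fun j s => ψ (C (aeval a (pderiv (P.map s) (P.relation j))))
    have hrel : ∀ j, ∑ s, Jm j s * t (P.map s) ∈ N := by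
      intro j
      have h0 : aeval a (P.relation j) = 0 := by
        refine RingHom.mem_ker.mp (hIq ?_)
        rw [hker]
        exact Ideal.subset_span ⟨j, rfl⟩
      have hψ : ψ (P.relation j) = 0 := by simp [ψ, φ]
      have h := Ideal.mem_map_of_mem ψ (sub_linear_part_mem a (P.relation j))
      rw [h0, map_zero, sub_zero, map_sub, hψ, zero_sub, Ideal.map_pow, ← ptIdeal_eq_span,
        ← h𝔪, Ideal.neg_mem_iff, map_sum] at h
      have h' : ∑ i, ψ (C (aeval a (pderiv i (P.relation j)))) * t i ∈ N := by
        refine Ideal.mem_sup_right ?_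
        simpa [t, map_mul] using h
      rw [← Finset.sum_add_sum_compl (Finset.univ.image P.map)] at h'
      have h'' := Ideal.sub_mem _ h'
        (Ideal.sum_mem N (t := (Finset.univ.image P.map)ᶜ)
          (f := fun i => ψ (C (aeval a (pderiv i (P.relation j)))) * t i) fun i hi =>
          Ideal.mul_mem_left _ _ (Ideal.mem_sup_left (Ideal.subset_span ⟨i, by simpa using hi, rfl⟩)))
      rw [add_sub_cancel_right, Finset.sum_image fun x _ y _ h => P.map_inj h] at h''
      exact h''
    have hdet : IsUnit Jm.det := by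
      have hu : aeval a P.jacobiMatrix.det ≠ 0 := by
        intro h
        have h1 : φ P.jacobiMatrix.det ∈ M := by
          rw [← Ideal.Quotient.eq_zero_iff_mem, hmk, h, map_zero]
        have h2 : IsUnit (φ P.jacobiMatrix.det) := by
          have := P.jacobian_isUnit
          rwa [P.jacobian_eq_jacobiMatrix_det, P.algebraMap_eq] at this
        exact ‹M.IsMaximal›.ne_top (M.eq_top_of_isUnit_mem h1 h2)
      have hJ : Jm = (((ψ.comp C).comp (aeval a).toRingHom).mapMatrix P.jacobiMatrix).transpose := by
        ext j s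
        simp [Jm, P.jacobiMatrix_apply]
      rw [hJ, Matrix.det_transpose, ← RingHom.map_det]
      exact (isUnit_iff_ne_zero.mpr hu).map (ψ.comp C)
    refine Ideal.span_le.mpr ?_
    rintro _ ⟨i, rfl⟩
    by_cases hi : i ∈ Set.range P.map
    · obtain ⟨s, rfl⟩ := hi
      have hinv : t (P.map s) = ∑ j, Jm⁻¹ s j * ∑ s', Jm j s' * t (P.map s') := by
        have : Jm⁻¹.mulVec (Jm.mulVec fun s' => t (P.map s')) = fun s' => t (P.map s') := by
          rw [Matrix.mulVec_mulVec, Matrix.nonsing_inv_mul _ hdet, Matrix.one_mulVec]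
        exact (congrFun this s).symm
      rw [SetLike.mem_coe, hinv]
      exact Ideal.sum_mem _ fun j _ => Ideal.mul_mem_left _ _ (hrel j)
    · exact Ideal.mem_sup_left (Ideal.subset_span ⟨i, hi, rfl⟩)

include hM in
/-- The local ring of height at most one at a rational point of a smooth domain is a field or a
discrete valuation ring. -/
theorem isDiscreteValuationRing_of_height_le_one [IsDomain R] [IsNoetherianRing R] [IsLocalRing R]
    (hh : M.height ≤ 1) (hR : ¬ IsField R) : IsDiscreteValuationRing R := by
  obtain ⟨s, hs, hcard, hspan⟩ := exists_generators_maximalIdeal M hM R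
  have h1 : s.ncard ≤ 1 := by exact_mod_cast hcard.trans hh
  have hprin : (IsLocalRing.maximalIdeal R).IsPrincipal := by
    rcases Nat.le_one_iff_eq_zero_or_eq_one.mp h1 with h | h
    · rw [(Set.ncard_eq_zero hs).mp h, Ideal.span_empty] at hspan
      rw [hspan]
      exact ⟨0, by simp⟩
    · obtain ⟨x, rfl⟩ := Set.ncard_eq_one.mp h
      exact ⟨x, hspan⟩
  exact ((IsDiscreteValuationRing.TFAE R hR).out 4 0).mp hprin

end Smooth

end Groth.Agent.Lib.SmoothCurve.Local
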